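import Groth.Agent.GrTildeLib.ExtGraded
import Groth.Agent.GrTildeLib.Map
import Groth.Agent.GrTildeLib.Gens
import Groth.Agent.GrTildeLib.FiniteType
import Groth.Agent.GrTildeLib.QCoh
import Groth.Agent.QCohLib.Coherent
import Groth.Agent.DevLib.Closed
import Groth.Agent.S4812

/-!
# Coherence of `O(n)` on `Proj` of a Noetherian graded ring
-/

set_option autoImplicit false
set_option linter.style.haveILetI false
set_option backward.isDefEq.respectTransparency false

universe u

open CategoryTheory CategoryTheory.Limits TopologicalSpace AlgebraicGeometry Opposite DirectSum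
open Groth.Agent.GrTildeLib

noncomputable section

namespace Groth.Agent.SerreProjLib

variable {R A : Type u} [CommRing R] [CommRing A] [Algebra R A] (𝒜 : ℕ → Submodule R A) [GradedAlgebra 𝒜]

/-- The pieces of degree `≥ r`. -/
def upGr (r : ℕ) : ℕ → Submodule R A := fun k => 𝒜 (k + r)

instance gradedSMul_upGr (r : ℕ) : SetLike.GradedSMul 𝒜 (upGr 𝒜 r) :=
  ⟨fun {i j a m} ha hm => by
    show a • m ∈ 𝒜 (i + j + r)
    rw [add_assoc]
    exact SetLike.GradedMul.mul_mem ha hm⟩

/-- The pieces as a system. -/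
def upSys (r : ℕ) : GSys 𝒜 A where
  P k := (𝒜 (k + r)).toAddSubgroup
  smul_mem {e n} a z hz := by
    show a.1 • z ∈ 𝒜 (e + n + r)
    rw [add_assoc]
    exact SetLike.GradedMul.mul_mem a.2 hz

/-- The inclusion into the ring. -/
def upIncl (r : ℕ) : (upSys 𝒜 r).M →ₗ[A] A where
  toFun := DirectSum.toAddMonoid fun k => ((upSys 𝒜 r).P k).subtype
  map_add' := map_add _
  map_smul' a m := by
    rw [RingHom.id_apply]
    induction m using DirectSum.induction_on with
    | zero => simp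
    | add m m' h h' => rw [smul_add, map_add, map_add, h, h', smul_add]
    | of k z =>
      induction a using DirectSum.Decomposition.inductionOn 𝒜 with
      | zero => simp
      | add a b ha hb => rw [add_smul, map_add, ha, hb, add_smul]
      | homogeneous a => rw [GSys.smul_of, DirectSum.toAddMonoid_of, DirectSum.toAddMonoid_of]; rfl

theorem upIncl_of (r k : ℕ) (z : (upSys 𝒜 r).P k) :
    upIncl 𝒜 r (DirectSum.of (fun n => (upSys 𝒜 r).P n) k z) = z.1 := by
  simp [upIncl]

theorem injective_upIncl (r : ℕ) : Function.Injective (upIncl 𝒜 r) := by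
  classical
  have key : ∀ (m : (upSys 𝒜 r).M) (k : ℕ),
      ((m k : (upSys 𝒜 r).P k) : A) = (DirectSum.decompose 𝒜 (upIncl 𝒜 r m) (k + r) : A) := fun m k => by
    induction m using DirectSum.induction_on with
    | zero => simp
    | add m m' h h' =>
      rw [DirectSum.add_apply, AddSubgroup.coe_add, h, h', map_add, DirectSum.decompose_add, DFinsupp.add_apply,
        Submodule.coe_add]
    | of i z =>
      rw [upIncl_of]
      by_cases hik : i = k
      · subst hik
        rw [DirectSum.of_eq_same]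
        exact (DirectSum.decompose_of_mem_same 𝒜 z.2).symm
      · rw [DirectSum.of_eq_of_ne _ _ _ (Ne.symm hik)]
        exact (DirectSum.decompose_of_mem_ne 𝒜 z.2 (by omega)).symm
  intro m m' h
  exact DFinsupp.ext fun k => Subtype.ext (by rw [key, key, h])

theorem regrades_upGr (r : ℕ) : Regrades (upGr 𝒜 r) 𝒜 0 (r : ℤ) ∧ Regrades 𝒜 (upGr 𝒜 r) (r : ℤ) 0 := by
  constructor
  · intro i j m hm he _
    exact ⟨i + r, by omega, hm⟩
  · intro i j m hm he _
    refine ⟨i - r, by omega, ?_⟩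
    show m ∈ 𝒜 (i - r + r)
    rwa [Nat.sub_add_cancel (by omega)]

theorem isCoh_twist [IsNoetherianRing A] [IsLocallyNoetherian (Proj 𝒜)] (r : ℕ) :
    Coh.IsCoh (Twist.twist 𝒜 (r : ℤ)) := by
  let S := upSys 𝒜 r
  haveI : Module.Finite A S.M := Module.Finite.of_injective (upIncl 𝒜 r) (injective_upIncl 𝒜 r)
  have hfg : (HomogeneousIdeal.irrelevant 𝒜).toIdeal.FG := IsNoetherian.noetherian _
  have hTF : ∃ n : ℕ, (Submodule.span A (⋃ k ∈ Set.Ici n, (S.grade k : Set S.M))).FG :=
    ⟨0, IsNoetherian.noetherian _⟩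
  have hS : Coh.IsCoh (GrTilde.tilde 𝒜 S.grade 0) := ⟨isQCoh_tilde 0, isFiniteType_tilde hfg hTF⟩
  have hu : IsDeg S.grade (upGr 𝒜 r) (upIncl 𝒜 r) := by
    rintro i _ ⟨z, rfl⟩
    rw [upIncl_of]
    exact z.2
  let p := tmap 𝒜 S.grade (upGr 𝒜 r) (upIncl 𝒜 r) hu 0 ≫ (regradeIso (regrades_upGr 𝒜 r).1 (regrades_upGr 𝒜 r).2).hom ≫
    (twistIso 𝒜 (r : ℤ)).inv
  haveI : Epi (tmap 𝒜 S.grade (upGr 𝒜 r) (upIncl 𝒜 r) hu 0) :=
    epi_tmap _ hu 0 fun i z hz => ⟨_, ⟨⟨z, hz⟩, rfl⟩, upIncl_of 𝒜 r i ⟨z, hz⟩⟩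
  haveI : Epi p := inferInstance
  haveI := isQCoh_twist (𝒜 := 𝒜) (r : ℤ)
  refine ⟨inferInstance, ?_⟩
  haveI := hS.1
  exact S4812.isFT_of_epi (M := GrTilde.tilde 𝒜 S.grade 0) hS.2 p

end Groth.Agent.SerreProjLib
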